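import Groth.Agent.Fano.K255.PfDef
import Groth.Agent.Fano.K714.RatTop
import Groth.Agent.Fano.K434.HilbFam
import Groth.Agent.Fano.K430.QuartAsm

/-!
# Assembly for S16528 (elliptic quintics on a cubic threefold)

`K255.AsmE.main`: irreducibility and dimension from the nodes of `K255/PlanE.lean` as hypotheses.
-/

set_option autoImplicit false
universe u
open CategoryTheory CategoryTheory.Limits AlgebraicGeometry TopologicalSpace Opposite

namespace K255.AsmE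

open Groth.Agent.Fano.K714.Rat Groth.Agent.Fano.K714.Quart Groth.Agent.Fano.K715.Quint K255.Pf
  K714.Irr LefPen Groth.Agent.Lefpen.H703.ZOpen

variable {k : Type u} [Field k]

/-- a closed subscheme has a class -/
theorem exists_class {X : Scheme.{u}} (x : X ⟶ Spec (CommRingCat.of k)) (H : Over (Spec (CommRingCat.of k)))
    (Z : FGA.HilbSet x H) (hH : FGA.HilbRepresentedBy x H Z) {C : Scheme.{u}} (i : C ⟶ X) [IsClosedImmersion i]
    [IsProper (i ≫ x)] : ∃ h : pt k ⟶ H, FGA.hilbPull x h Z.1 = i.ker.comap (pullback.fst x (pt k).hom) := by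
  have hid : Spec.map (CommRingCat.ofHom (RingHom.id k)) = 𝟙 (Spec (CommRingCat.of k)) := Spec.map_id _
  have hfl : Flat (i ≫ x) := inferInstance
  have hjw : i ≫ x = (i ≫ x) ≫ Spec.map (CommRingCat.ofHom (RingHom.id k)) := by rw [hid, Category.comp_id]
  have hcl : IsClosedImmersion (pullback.lift i (i ≫ x) hjw) := by
    have hiso : IsIso (pullback.fst x (Spec.map (CommRingCat.ofHom (RingHom.id k)))) := by
      rw [hid]; infer_instance
    have h1 : pullback.lift i (i ≫ x) hjw = i ≫ inv (pullback.fst x (Spec.map (CommRingCat.ofHom (RingHom.id k)))) := by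
      rw [← cancel_mono (pullback.fst x (Spec.map (CommRingCat.ofHom (RingHom.id k)))), pullback.lift_fst,
        Category.assoc, IsIso.inv_hom_id, Category.comp_id]
    rw [h1]; infer_instance
  obtain ⟨g, hg⟩ := Groth.Agent.Fano.K434.HilbFam.exists_hom_of_family x H Z hH k (RingHom.id k) (i ≫ x) i hjw hcl
  have hm : Spec.map (CommRingCat.ofHom (RingHom.id k)) ≫ Spec.map (CommRingCat.ofHom (RingHom.id k)) =
      𝟙 (Spec (CommRingCat.of k)) := by rw [hid, Category.comp_id]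
  refine ⟨_, (hg (RingHom.id k) hm C (i ≫ x) (𝟙 C) ?_).trans (by rw [Category.id_comp])⟩
  have : IsIso (Spec.map (CommRingCat.ofHom (RingHom.id k))) := by rw [hid]; infer_instance
  exact IsPullback.of_horiz_isIso ⟨by rw [Category.id_comp]; exact hjw⟩

theorem isClassE_unique {f : Form 4 k 3} {H : Over (Spec (CommRingCat.of k))} {Z : FGA.HilbSet (ps f) H}
    (hH : FGA.HilbRepresentedBy (ps f) H Z) {M : DataE k} {x x' : ↥H.left}
    (h : IsClassE f H Z M x) (h' : IsClassE f H Z M x') : x = x' := by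
  obtain ⟨g, rfl, hg⟩ := h
  obtain ⟨g', rfl, hg'⟩ := h'
  obtain rfl := Groth.Agent.Fano.K714.RatTop.hom_unique hH (hg.trans hg'.symm)
  rfl

/-- polynomial conditions on matrices are open -/
theorem isZOpen_coordE (G : MvPolynomial (Fin 6 × Fin 6 × Fin 5) k) :
    IsZOpen k {M : DataE k | MvPolynomial.eval (coordE M) G ≠ 0} := by
  refine isZOpen_basic (isPolyFun_eval G fun q => ?_)
  exact isPolyFun_linear' ((LinearMap.proj (R := k) (φ := fun _ : Fin 5 => k) q.2.2).comp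
    ((LinearMap.proj (R := k) (φ := fun _ : Fin 6 => Fin 5 → k) q.2.1).comp
      (LinearMap.proj (R := k) (φ := fun _ : Fin 6 => Fin 6 → Fin 5 → k) q.1)))

theorem curveSetQ_subset (f : Form 4 k 3) (H : Over (Spec (CommRingCat.of k))) (Z : FGA.HilbSet (ps f) H) (g : ℕ)
    (d : ℤ) (Q : (CohB1.ProjSpace 4 k).IdealSheafData → Prop) : curveSetQ f H Z g d Q ⊆ curveSet f H Z g d := by
  rintro x ⟨h, C, p, i, h1, h2, h3, h4, h5, h6, h7, h8, h9, -, h10⟩
  exact ⟨h, C, p, i, h1, h2, h3, h4, h5, h6, h7, h8, h9, h10⟩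

section Props

variable (f : Form 4 k 3)

/-- G1 -/
def ClassStmt : Prop :=
  ∀ (C : Scheme.{u}) (p : C ⟶ Spec (CommRingCat.of k)) (i : C ⟶ Xf f) (_ : IsClosedImmersion i)
    (_ : i ≫ ps f = p) (_ : Smooth p) (_ : IsProper p) (_ : IsIntegral C)
    (_ : topologicalKrullDim C = 1) (_ : @Curv2.genus k _ C ⟨p⟩ = 1)
    (_ : @Curv2.deg k _ C ⟨p⟩ ((Scheme.Modules.pullback (i ≫ emb f)).obj
      (Twist.twistProjSpace 4 k 1)) 1 = 5) (_ : NonDeg (i ≫ emb f).ker),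
    ∃ M ∈ PP f.1, (i ≫ emb f).ker = cE M

/-- G2 for one matrix -/
def EllStmt : Prop :=
  ∀ (M : DataE k) (_ : M ∈ PP f.1) (_ : GoodE M),
    NonDeg (cE M) ∧
    ∃ (i : (cE M).subscheme ⟶ Xf f), i ≫ emb f = (cE M).subschemeι ∧ IsClosedImmersion i ∧
      i.ker = (cE M).comap (emb f) ∧ IsIntegral (cE M).subscheme ∧ IsProper (i ≫ ps f) ∧
      @Curv2.genus k _ (cE M).subscheme ⟨i ≫ ps f⟩ = 1 ∧
      @Curv2.deg k _ (cE M).subscheme ⟨i ≫ ps f⟩ ((Scheme.Modules.pullback (i ≫ emb f)).obj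
        (Twist.twistProjSpace 4 k 1)) 1 = 5

variable (H : Over (Spec (CommRingCat.of k))) (Z : FGA.HilbSet (ps f) H)

/-- G3 -/
def FamStmt : Prop :=
  ∀ (A : H.left.Opens) (M₀ : DataE k) (_ : M₀ ∈ PP f.1) (_ : GoodE M₀) (x₀ : ↥H.left) (_ : IsClassE f H Z M₀ x₀)
    (_ : x₀ ∈ A),
    ∃ G : MvPolynomial (Fin 6 × Fin 6 × Fin 5) k, MvPolynomial.eval (coordE M₀) G ≠ 0 ∧
      ∀ M : DataE k, M ∈ PP f.1 → MvPolynomial.eval (coordE M) G ≠ 0 → GoodE M ∧ ∃ x ∈ A, IsClassE f H Z M x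

/-- regularity at all points -/
def RegStmt : Prop :=
  ∀ (C : Scheme.{u}) (p : C ⟶ Spec (CommRingCat.of k)) (i : C ⟶ Xf f) (_ : IsClosedImmersion i)
    (_ : i ≫ ps f = p) (_ : Smooth p) (_ : IsProper p) (_ : IsIntegral C)
    (_ : topologicalKrullDim C = 1) (_ : @Curv2.genus k _ C ⟨p⟩ = 1)
    (_ : @Curv2.deg k _ C ⟨p⟩ ((Scheme.Modules.pullback (i ≫ emb f)).obj
      (Twist.twistProjSpace 4 k 1)) 1 = 5)
    (h : pt k ⟶ H) (_ : FGA.hilbPull (ps f) h Z.1 = i.ker.comap (pullback.fst (ps f) (pt k).hom)),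
    IsRegularLocalRing (H.left.presheaf.stalk (h.left.base (IsLocalRing.closedPoint k))) ∧
      ringKrullDim (H.left.presheaf.stalk (h.left.base (IsLocalRing.closedPoint k))) = 10

/-- G8 -/
def LimStmt : Prop :=
  ∀ (x : ↥H.left) (_ : x ∈ curveSet f H Z 1 5) (A : H.left.Opens) (_ : x ∈ A),
    ∃ y ∈ A, y ∈ curveSetQ f H Z 1 5 NonDeg

end Props

/-- The family version of `EllStmt`: the class of a good matrix is in the set. -/
theorem mem_curveSet_of {f : Form 4 k 3} {H : Over (Spec (CommRingCat.of k))}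
    {Z : FGA.HilbSet (ps f) H} (h2 : EllStmt f) {M : DataE k} (hM : M ∈ PP f.1) (hgood : GoodE M) {y : ↥H.left}
    (hy : IsClassE f H Z M y) : y ∈ curveSet f H Z 1 5 := by
  obtain ⟨hnd, i, hi1, hi2, hi3, hi4, hi5, hi6, hi7⟩ := h2 M hM hgood
  obtain ⟨h, rfl, hh⟩ := hy
  have hsm : Smooth (i ≫ ps f) := by
    have : i ≫ ps f = (cE M).subschemeι ≫ CohB1.ProjSpace.toSpec 4 k := by
      rw [← hi1]; exact (Category.assoc _ _ _).symm
    rw [this]; exact hgood.1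
  exact ⟨h, (cE M).subscheme, i ≫ ps f, i, rfl, hi2, rfl, hsm, hi5, hi4, hgood.2, hi6, hi7, by rw [hh, hi3]⟩

/-- The Pfaffian curves which are good. -/
theorem irreducible_and_dim {f : Form 4 k 3} {H : Over (Spec (CommRingCat.of k))}
    {Z : FGA.HilbSet (ps f) H} (hH : FGA.HilbRepresentedBy (ps f) H Z) (hI : Irr k (PP f.1))
    (hex : ∃ M ∈ PP f.1, GoodE M) (h1 : ClassStmt f) (h2 : EllStmt f) (h3 : FamStmt f H Z) (h4 : RegStmt f H Z)
    (h8 : LimStmt f H Z) :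
    IsIrreducible (curveSet f H Z 1 5) ∧ ∀ x ∈ curveSet f H Z 1 5, ringKrullDim (H.left.presheaf.stalk x) = 10 := by
  -- nondegenerate points have matrices
  have key : ∀ (A : H.left.Opens) (x : ↥H.left), x ∈ curveSet f H Z 1 5 → x ∈ A →
      ∃ O : Set (DataE k), IsZOpen k O ∧ (PP f.1 ∩ O).Nonempty ∧ ∀ M ∈ PP f.1, M ∈ O →
        GoodE M ∧ ∃ y ∈ A, IsClassE f H Z M y := by
    intro A x hx hA
    obtain ⟨y, hyA, h, C, p, i, e1, e2, e3, e4, e5, e6, e7, e8, e9, e10, e11⟩ := h8 x hx A hA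
    obtain ⟨M, hM, hker⟩ := h1 C p i e2 e3 e4 e5 e6 e7 e8 e9 e10
    have hik : i.ker = (cE M).comap (emb f) := by
      rw [← hker]
      exact (Groth.Agent.Fcompl.H545.SysBasic.comap_ker_comp i (emb f)).symm
    have hcl : IsClassE f H Z M y := ⟨h, e1, by rw [e11, hik]⟩
    have hgood : GoodE M := K430.QuartAsm.smooth_and_dim_of_ker (i ≫ emb f)
      (CohB1.ProjSpace.toSpec 4 k) (by rw [Category.assoc]; exact e3 ▸ e4) e7 _ hker
    obtain ⟨G, hG, hG'⟩ := h3 A M hM hgood y hcl hyA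
    exact ⟨_, isZOpen_coordE G, ⟨M, hM, hG⟩, fun M' hM' hM'' => hG' M' hM' hM''⟩
  refine ⟨⟨?_, ?_⟩, ?_⟩
  · obtain ⟨M, hM, hgood⟩ := hex
    obtain ⟨hnd, i, hi1, hi2, hi3, hi4, hi5, hi6, hi7⟩ := h2 M hM hgood
    obtain ⟨h, hh⟩ := exists_class (ps f) H Z hH i
    exact ⟨_, mem_curveSet_of h2 hM hgood ⟨h, rfl, by rw [hh, hi3]⟩⟩
  · rintro A A' hA hA' ⟨x, hx, hxA⟩ ⟨x', hx', hxA'⟩
    obtain ⟨O, hO, hne, h5⟩ := key ⟨A, hA⟩ x hx hxA
    obtain ⟨O', hO', hne', h5'⟩ := key ⟨A', hA'⟩ x' hx' hxA'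
    obtain ⟨M, hM, hMO, hMO'⟩ := hI.2 O O' hO hO' hne hne'
    obtain ⟨hgood, y, hy, hyc⟩ := h5 M hM hMO
    obtain ⟨-, y', hy', hyc'⟩ := h5' M hM hMO'
    obtain rfl := isClassE_unique hH hyc hyc'
    exact ⟨y, mem_curveSet_of h2 hM hgood hyc, hy, hy'⟩
  · rintro x ⟨h, C, p, i, rfl, e2, e3, e4, e5, e6, e7, e8, e9, e11⟩
    exact (h4 C p i e2 e3 e4 e5 e6 e7 e8 e9 h e11).2

end K255.AsmE
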