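import Groth.Agent.Fano.K715.QuintDef
import Mathlib.Algebra.MvPolynomial.Funext

/-!
# Elliptic quintics on a cubic threefold as Pfaffian curves (definitions for S16528)

`M : Fin 6 → Fin 6 → Fin 5 → k` is a skew `6×6` matrix of linear forms on `k^5` (`M i j` = coefficient vector of the
entry `(i, j)`).
* `pf4 m a b c d`, `pf6 m`: the Pfaffians of the block with rows `a, b, c, d` and of the whole matrix.
* `PP f`: the Pfaffian representations of the cubic form `f`.
* `qE M j`: the five `4×4` Pfaffians of the block of the rows `0, …, 4`; `cE M`: the ideal sheaf on `P^4` they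
  generate; `GoodE M`: it is a smooth curve.
* `IsClassE f H Z M x`: `x` is the point of the Hilbert scheme of `V_+(f)` given by that curve.
-/

set_option autoImplicit false
universe u
open CategoryTheory CategoryTheory.Limits AlgebraicGeometry TopologicalSpace Opposite

namespace K255.Pf

open Groth.Agent.Fano.K714.Rat Groth.Agent.Fano.K714.Quart Groth.Agent.Fano.K715.Quint

/-- Pfaffian of the `4×4` block with rows `a, b, c, d`. -/
def pf4 {R : Type u} [CommRing R] (m : Fin 6 → Fin 6 → R) (a b c d : Fin 6) : R :=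
  m a b * m c d - m a c * m b d + m a d * m b c

/-- Pfaffian of a skew `6×6` matrix (expansion along the last column). -/
def pf6 {R : Type u} [CommRing R] (m : Fin 6 → Fin 6 → R) : R :=
  m 0 5 * pf4 m 1 2 3 4 - m 1 5 * pf4 m 0 2 3 4 + m 2 5 * pf4 m 0 1 3 4 - m 3 5 * pf4 m 0 1 2 4 +
    m 4 5 * pf4 m 0 1 2 3

variable {k : Type u} [Field k]

/-- Matrices of linear forms. -/
abbrev DataE (k : Type u) : Type u := Fin 6 → Fin 6 → Fin 5 → k

/-- The coordinates of a point of the parameter space. -/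
def coordE (M : DataE k) : (Fin 6 × Fin 6 × Fin 5) → k := fun q => M q.1 q.2.1 q.2.2

/-- The matrix of linear forms. -/
noncomputable def matE (M : DataE k) (i j : Fin 6) : MvPolynomial (Fin 5) k := (lin (M i j)).1

/-- The value of the matrix at a vector. -/
def valE (M : DataE k) (x : Fin 5 → k) (i j : Fin 6) : k := ∑ l, M i j l * x l

theorem eval_matE (M : DataE k) (x : Fin 5 → k) (i j : Fin 6) :
    MvPolynomial.eval x (matE M i j) = valE M x i j := eval_lin _ _

/-- Pfaffian representations of the cubic form `f`. -/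
def PP (f : MvPolynomial (Fin 5) k) : Set (DataE k) :=
  {M | (∀ i j, M i j = - M j i) ∧ pf6 (matE M) = f}

theorem map_pf4 {R S : Type u} [CommRing R] [CommRing S] (φ : R →+* S) (m : Fin 6 → Fin 6 → R) (a b c d : Fin 6) :
    φ (pf4 m a b c d) = pf4 (fun i j => φ (m i j)) a b c d := by
  simp only [pf4, map_add, map_sub, map_mul]

theorem map_pf6 {R S : Type u} [CommRing R] [CommRing S] (φ : R →+* S) (m : Fin 6 → Fin 6 → R) :
    φ (pf6 m) = pf6 (fun i j => φ (m i j)) := by
  simp only [pf6, map_pf4, map_add, map_sub, map_mul]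

/-- pointwise form of the equation -/
theorem mem_PP_iff [Infinite k] (f : MvPolynomial (Fin 5) k) (M : DataE k) :
    M ∈ PP f ↔ (∀ i j, M i j = - M j i) ∧ ∀ x : Fin 5 → k, pf6 (valE M x) = MvPolynomial.eval x f := by
  refine and_congr Iff.rfl ⟨fun h x => ?_, fun h => MvPolynomial.funext fun x => ?_⟩
  · rw [← h, map_pf6]
    simp only [eval_matE]
  · rw [map_pf6, ← h x]
    simp only [eval_matE]

/-- The `4×4` Pfaffian of the block with rows `a, b, c, d` as a quadratic form. -/
noncomputable def qf4 (M : DataE k) (a b c d : Fin 6) : LefPen.Form 4 k 2 :=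
  fm (lin (M a b)) (lin (M c d)) rfl - fm (lin (M a c)) (lin (M b d)) rfl + fm (lin (M a d)) (lin (M b c)) rfl

theorem qf4_val (M : DataE k) (a b c d : Fin 6) : (qf4 M a b c d).1 = pf4 (matE M) a b c d := rfl

/-- The five quadrics: `qE M j` is the Pfaffian of the block `{0, …, 4} ∖ {j}`. -/
noncomputable def qE (M : DataE k) : Fin 5 → LefPen.Form 4 k 2 :=
  ![qf4 M 1 2 3 4, qf4 M 0 2 3 4, qf4 M 0 1 3 4, qf4 M 0 1 2 4, qf4 M 0 1 2 3]

/-- The ideal sheaf on `P^4` of the Pfaffian curve. -/
noncomputable def cE (M : DataE k) : (CohB1.ProjSpace 4 k).IdealSheafData := ⨆ j : Fin 5, LefPen.hypIdeal (qE M j)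

/-- The Pfaffian curve is smooth of dimension one. -/
def GoodE (M : DataE k) : Prop :=
  Smooth ((cE M).subschemeι ≫ CohB1.ProjSpace.toSpec 4 k) ∧ topologicalKrullDim ↥(cE M).subscheme = 1

/-- `x` is the point of the Hilbert scheme of `V_+(f)` given by the Pfaffian curve. -/
def IsClassE (f : LefPen.Form 4 k 3) (H : Over (Spec (CommRingCat.of k))) (Z : FGA.HilbSet (ps f) H)
    (M : DataE k) (x : ↥H.left) : Prop :=
  ∃ h : pt k ⟶ H, x = h.left.base (IsLocalRing.closedPoint k) ∧
    FGA.hilbPull (ps f) h Z.1 = ((cE M).comap (emb f)).comap (pullback.fst (ps f) (pt k).hom)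

/-- A closed subscheme of `P^4` is not contained in a hyperplane. -/
def NonDeg (I : (CohB1.ProjSpace 4 k).IdealSheafData) : Prop :=
  ∀ l : LefPen.Form 4 k 1, l ≠ 0 → ¬ LefPen.hypIdeal l ≤ I

/-- The set of `k`-points of the Hilbert scheme of `V_+(f)` classifying smooth connected curves of genus `g` and
degree `d` which satisfy a condition `Q` on the ideal sheaf on `P^4`. -/
def curveSetQ (f : LefPen.Form 4 k 3) (H : Over (Spec (CommRingCat.of k))) (Z : FGA.HilbSet (ps f) H) (g : ℕ)
    (d : ℤ) (Q : (CohB1.ProjSpace 4 k).IdealSheafData → Prop) : Set ↥H.left :=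
  {x | ∃ (h : Over.mk (𝟙 (Spec (CommRingCat.of k))) ⟶ H) (C : Scheme.{u}) (p : C ⟶ Spec (CommRingCat.of k))
      (i : C ⟶ (LefPen.hypIdeal f).subscheme),
      x = h.left.base (IsLocalRing.closedPoint k) ∧ IsClosedImmersion i ∧
      i ≫ (LefPen.hypIdeal f).subschemeι ≫ CohB1.ProjSpace.toSpec 4 k = p ∧
      Smooth p ∧ IsProper p ∧ IsIntegral C ∧ topologicalKrullDim C = 1 ∧
      @Curv2.genus k _ C ⟨p⟩ = g ∧
      @Curv2.deg k _ C ⟨p⟩ ((Scheme.Modules.pullback (i ≫ (LefPen.hypIdeal f).subschemeι)).obj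
        (Twist.twistProjSpace 4 k 1)) 1 = d ∧
      Q (i ≫ emb f).ker ∧
      FGA.hilbPull ((LefPen.hypIdeal f).subschemeι ≫ CohB1.ProjSpace.toSpec 4 k) h Z.1 =
        i.ker.comap (pullback.fst ((LefPen.hypIdeal f).subschemeι ≫ CohB1.ProjSpace.toSpec 4 k) (Over.mk (𝟙 (Spec (CommRingCat.of k)))).hom)}

end K255.Pf
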