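import Groth.Agent.Fano.K255.AsmE
import Groth.Agent.Fano.K419.QuintGeo
import Groth.Agent.Fano.K573.PPCoords
import Groth.Agent.Fano.K554.PfGoodE
import Groth.Agent.Fano.K431.PfFamE
import Groth.Agent.Fano.K560.EllReg
import Groth.Agent.Fano.K783.ConNd
import Groth.Agent.Fano.K332.PfGood
import Groth.Agent.Fano.K409.JacE
import Groth.Agent.Fano.K714.JacSm
import Groth.Agent.Fano.K972.IrrPP
import Groth.Agent.Fano.K783.ExNonDeg

/-!
# S16528 from the irreducibility of the Pfaffian representations and the two statements on degenerate curves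
-/

set_option autoImplicit false
universe u
open CategoryTheory CategoryTheory.Limits AlgebraicGeometry TopologicalSpace Opposite

namespace K255.FinE

open Groth.Agent.Fano.K714.Rat Groth.Agent.Fano.K714.Quart Groth.Agent.Fano.K715.Quint K255.Pf K255.AsmE
  K714.Irr LefPen Groth.Agent.Lefpen.H703.ZOpen

variable {k : Type u} [Field k] [IsAlgClosed k] [CharZero k]

/-- `H⁰` of the conormal sheaf of a degenerate curve (node G7) -/
def ConDegStmt (f : Form 4 k 3) : Prop :=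
  ∀ (C : Scheme.{u}) (p : C ⟶ Spec (CommRingCat.of k)) (i : C ⟶ Xf f) (_ : IsClosedImmersion i)
    (_ : i ≫ ps f = p) (_ : Smooth p) (_ : IsProper p) (_ : IsIntegral C)
    (_ : topologicalKrullDim C = 1) (_ : @Curv2.genus k _ C ⟨p⟩ = 1)
    (_ : @Curv2.deg k _ C ⟨p⟩ ((Scheme.Modules.pullback (i ≫ emb f)).obj
      (Twist.twistProjSpace 4 k 1)) 1 = 5) (_ : ¬ NonDeg (i ≫ emb f).ker),
    Subsingleton (Coh.HH C (Omega.conormal i) 0)

theorem classStmt (f : Form 4 k 3) (hf : f ≠ 0) [Smooth (ps f)] : ClassStmt f := by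
  intro C p i hcl hip hsm hpr hint hdim hg hdeg hnd
  obtain ⟨K, _, _, ξ, τ, y, w, h1, h2, h3, h4, h5, h6⟩ :=
    K419.QuintGeo.exists_coords f C p i hcl hip hsm hpr hint hdim hg hdeg hnd
  exact K573.PPCoords.exists_PP_of_coords f hf C p i hcl hip hint hdim K ξ τ y w h1 h2 h3 h4 h5 h6

theorem ellStmt (f : Form 4 k 3) : EllStmt f := fun M hM hgood => K554.PfGoodE.of_goodE f M hM hgood

theorem famStmt (f : Form 4 k 3) (H : Over (Spec (CommRingCat.of k))) (Z : FGA.HilbSet (ps f) H)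
    (hH : FGA.HilbRepresentedBy (ps f) H Z) : FamStmt f H Z := fun A _ hM₀ hgood _ hx₀ hA =>
  Groth.Agent.Fano.K431.PfFamE.exists_poly_good f H Z hH A hM₀ hgood hx₀ hA

theorem conormal (f : Form 4 k 3) (hf : f ≠ 0) [Smooth (ps f)] (h7 : ConDegStmt f)
    (C : Scheme.{u}) (p : C ⟶ Spec (CommRingCat.of k)) (i : C ⟶ Xf f) (hcl : IsClosedImmersion i)
    (hip : i ≫ ps f = p) (hsm : Smooth p) (hpr : IsProper p) (hint : IsIntegral C)
    (hdim : topologicalKrullDim C = 1) (hg : @Curv2.genus k _ C ⟨p⟩ = 1)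
    (hdeg : @Curv2.deg k _ C ⟨p⟩ ((Scheme.Modules.pullback (i ≫ emb f)).obj
      (Twist.twistProjSpace 4 k 1)) 1 = 5) : Subsingleton (Coh.HH C (Omega.conormal i) 0) := by
  by_cases hnd : NonDeg (i ≫ emb f).ker
  · obtain ⟨M, hM, hker⟩ := classStmt f hf C p i hcl hip hsm hpr hint hdim hg hdeg hnd
    exact K783.ConNd.conormal_nondeg f hf C p i hcl hip hsm hpr hint hdim hg M hM hker hnd
  · exact h7 C p i hcl hip hsm hpr hint hdim hg hdeg hnd

theorem regStmt (f : Form 4 k 3) (hf : f ≠ 0) [Smooth (ps f)] (h7 : ConDegStmt f)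
    (H : Over (Spec (CommRingCat.of k))) (Z : FGA.HilbSet (ps f) H)
    (hH : FGA.HilbRepresentedBy (ps f) H Z) : RegStmt f H Z :=
  fun C p i hcl hip hsm hpr hint hdim hg hdeg h hh =>
    K560.EllReg.regular_ten f hf H Z hH C p i hcl hip hsm hpr hint hdim hg hdeg
      (conormal f hf h7 C p i hcl hip hsm hpr hint hdim hg hdeg) h hh

/-- The statement of `S16528` from: irreducibility of `PP f`, G7, G8. -/
theorem main (f : Form 4 k 3) (hf : f ≠ 0) [Smooth (ps f)]
    (H : Over (Spec (CommRingCat.of k))) (Z : FGA.HilbSet (ps f) H)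
    (hH : FGA.HilbRepresentedBy (ps f) H Z) (hI : Irr k (PP f.1)) (h7 : ConDegStmt f) (h8 : LimStmt f H Z) :
    IsIrreducible (curveSet f H Z 1 5) ∧ ∀ x ∈ curveSet f H Z 1 5, ringKrullDim (H.left.presheaf.stalk x) = 10 := by
  have hsm : K714.Surf.SmoothOn (K656.Trilin.tri f.1) ⊤ := Groth.Agent.Fano.K714.JacSm.smoothOn_tri f hf inferInstance
  obtain ⟨M, hM, hJ⟩ := K409.JacE.exists_jacE f.1 f.2 hsm hI.1
  exact irreducible_and_dim hH hI ⟨M, hM, K332.PfGood.good_of_jacE M hJ⟩ (classStmt f hf) (ellStmt f)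
    (famStmt f H Z hH) (regStmt f hf h7 H Z hH) h8

/-- The statement of `S16528` from the nodes W and G8a. -/
theorem main' (f : Form 4 k 3) (hf : f ≠ 0) [Smooth (ps f)]
    (H : Over (Spec (CommRingCat.of k))) (Z : FGA.HilbSet (ps f) H)
    (hH : FGA.HilbRepresentedBy (ps f) H Z) (hW : K783.ExNonDeg.WStmt f) (hG : K783.ExNonDeg.NonLinStmt f) :
    IsIrreducible (curveSet f H Z 1 5) ∧ ∀ x ∈ curveSet f H Z 1 5, ringKrullDim (H.left.presheaf.stalk x) = 10 :=
  main f hf H Z hH (K972.IrrPP.irr_PP f.1 f.2 (Groth.Agent.Fano.K714.JacSm.smoothOn_tri f hf inferInstance))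
    (fun C p i hcl hip hsm hpr hint hdim hg hdeg hnd =>
      K783.ExNonDeg.conormal_deg f hf hW C p i hcl hip hsm hpr hint hdim hg hdeg hnd)
    fun _ hx A hA => K783.ExNonDeg.exists_nondeg f hf hW hG H Z hH hx A hA

end K255.FinE
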