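import Groth.Agent.Fano.K255.PfDef
import Groth.Agent.Fano.K714.Irr
import Groth.Agent.Fano.K714.Surf
import Groth.Agent.Cubic.K656.Trilin
import Groth.Prelude.Def_DCoh4
import Groth.Prelude.Def_LCI2
import Mathlib.RingTheory.PowerSeries.Basic

/-!
# PLAN (sorried, never import in a shipped proof): elliptic quintics on a cubic threefold, S16528
-/

set_option autoImplicit false
universe u
open CategoryTheory CategoryTheory.Limits AlgebraicGeometry TopologicalSpace Opposite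

namespace K255.PlanE

open Groth.Agent.Fano.K714.Rat Groth.Agent.Fano.K714.Quart Groth.Agent.Fano.K715.Quint K255.Pf

variable {k : Type u} [Field k] [IsAlgClosed k] [CharZero k]

/-! ## ALG: the Pfaffian representations of a smooth cubic threefold form an irreducible set -/

theorem irr_PP (f : MvPolynomial (Fin 5) k) (hf : f.IsHomogeneous 3)
    (hsm : K714.Surf.SmoothOn (K656.Trilin.tri f) ⊤) : K714.Irr.Irr k (PP f) := by
  sorry

/-! ## I6: a general section is smooth -/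

/-- Jacobian criterion: the five gradients span a space of dimension at least `3` at every point of the curve. -/
def JacE (M : DataE k) : Prop :=
  ∀ x : Fin 5 → k, x ≠ 0 → (∀ j, MvPolynomial.eval x (qE M j).1 = 0) →
    3 ≤ Module.finrank k ↥(Submodule.span k (Set.range fun j : Fin 5 => fun i : Fin 5 =>
      MvPolynomial.eval x (MvPolynomial.pderiv i (qE M j).1)))

theorem exists_jacE (f : MvPolynomial (Fin 5) k) (hf : f.IsHomogeneous 3)
    (hsm : K714.Surf.SmoothOn (K656.Trilin.tri f) ⊤) (h : (PP f).Nonempty) : ∃ M ∈ PP f, JacE M := by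
  sorry

/-- `M` skew suffices (a skew `5 × 5` matrix of linear forms on `k^5` has rank `≤ 2` at some `x ≠ 0`). -/
theorem good_of_jacE (M : DataE k) (hM : ∀ i j, M i j = - M j i) (h : JacE M) : GoodE M := by
  sorry

/-! ## G1: classification of nondegenerate elliptic quintics -/

/-- G1a: coordinates on an elliptic normal quintic. -/
theorem exists_coords (f : LefPen.Form 4 k 3) (hf : f ≠ 0) [Smooth (ps f)]
    (C : Scheme.{u}) (p : C ⟶ Spec (CommRingCat.of k)) (i : C ⟶ Xf f) (hcl : IsClosedImmersion i)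
    (hip : i ≫ ps f = p) (hsm : Smooth p) (hpr : IsProper p) (hint : IsIntegral C)
    (hdim : topologicalKrullDim C = 1) (hg : @Curv2.genus k _ C ⟨p⟩ = 1)
    (hdeg : @Curv2.deg k _ C ⟨p⟩ ((Scheme.Modules.pullback (i ≫ emb f)).obj
      (Twist.twistProjSpace 4 k 1)) 1 = 5) (hnd : NonDeg (i ≫ emb f).ker) :
    ∃ (K : Type u) (_ : Field K) (_ : Algebra k K) (ξ : Fin 5 → K) (τ y w : K),
      (∀ (d : ℕ) (F : LefPen.Form 4 k d), LefPen.hypIdeal F ≤ (i ≫ emb f).ker ↔ MvPolynomial.aeval ξ F.1 = 0) ∧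
      LinearIndependent k ξ ∧
      Submodule.span k (Set.range ξ) = Submodule.span k {y, τ * y, τ ^ 2 * y, w, τ * w} ∧
      (∀ P R : Polynomial k, Polynomial.aeval τ P * y + Polynomial.aeval τ R * w = 0 → P = 0 ∧ R = 0) ∧
      (∃ A₃ A₂ A₁ : Polynomial k, A₃.natDegree ≤ 3 ∧ A₂.natDegree ≤ 2 ∧ A₁.natDegree ≤ 1 ∧
        (A₃ ≠ 0 ∨ A₂ ≠ 0 ∨ A₁ ≠ 0) ∧
        y ^ 2 * Polynomial.aeval τ A₃ + y * w * Polynomial.aeval τ A₂ + w ^ 2 * Polynomial.aeval τ A₁ = 0) ∧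
      (∀ B₂ B₁ B₀ : Polynomial k, B₂.natDegree ≤ 2 → B₁.natDegree ≤ 1 → B₀.natDegree ≤ 0 →
        y ^ 2 * Polynomial.aeval τ B₂ + y * w * Polynomial.aeval τ B₁ + w ^ 2 * Polynomial.aeval τ B₀ = 0 →
        B₂ = 0 ∧ B₁ = 0 ∧ B₀ = 0) := by
  sorry

/-- G1b: the Pfaffian matrix. -/
theorem exists_PP_of_coords (f : LefPen.Form 4 k 3) (hf : f ≠ 0) [Smooth (ps f)]
    (C : Scheme.{u}) (p : C ⟶ Spec (CommRingCat.of k)) (i : C ⟶ Xf f) (hcl : IsClosedImmersion i)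
    (hip : i ≫ ps f = p) (hint : IsIntegral C) (hdim : topologicalKrullDim C = 1)
    (K : Type u) [Field K] [Algebra k K] (ξ : Fin 5 → K) (τ y w : K)
    (hK : ∀ (d : ℕ) (F : LefPen.Form 4 k d),
      LefPen.hypIdeal F ≤ (i ≫ emb f).ker ↔ MvPolynomial.aeval ξ F.1 = 0)
    (hξ : LinearIndependent k ξ)
    (hsp : Submodule.span k (Set.range ξ) = Submodule.span k {y, τ * y, τ ^ 2 * y, w, τ * w})
    (h1 : ∀ P R : Polynomial k, Polynomial.aeval τ P * y + Polynomial.aeval τ R * w = 0 → P = 0 ∧ R = 0)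
    (h2 : ∃ A₃ A₂ A₁ : Polynomial k, A₃.natDegree ≤ 3 ∧ A₂.natDegree ≤ 2 ∧ A₁.natDegree ≤ 1 ∧
        (A₃ ≠ 0 ∨ A₂ ≠ 0 ∨ A₁ ≠ 0) ∧
        y ^ 2 * Polynomial.aeval τ A₃ + y * w * Polynomial.aeval τ A₂ + w ^ 2 * Polynomial.aeval τ A₁ = 0)
    (h3 : ∀ B₂ B₁ B₀ : Polynomial k, B₂.natDegree ≤ 2 → B₁.natDegree ≤ 1 → B₀.natDegree ≤ 0 →
        y ^ 2 * Polynomial.aeval τ B₂ + y * w * Polynomial.aeval τ B₁ + w ^ 2 * Polynomial.aeval τ B₀ = 0 →
        B₂ = 0 ∧ B₁ = 0 ∧ B₀ = 0) :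
    ∃ M ∈ PP f.1, (i ≫ emb f).ker = cE M := by
  sorry

/-! ## G2: smooth Pfaffian curves are elliptic quintics -/

theorem of_goodE (f : LefPen.Form 4 k 3) (M : DataE k) (hM : M ∈ PP f.1) (hgood : GoodE M) :
    NonDeg (cE M) ∧
    ∃ (i : (cE M).subscheme ⟶ Xf f), i ≫ emb f = (cE M).subschemeι ∧ IsClosedImmersion i ∧
      i.ker = (cE M).comap (emb f) ∧ IsIntegral (cE M).subscheme ∧ IsProper (i ≫ ps f) ∧
      @Curv2.genus k _ (cE M).subscheme ⟨i ≫ ps f⟩ = 1 ∧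
      @Curv2.deg k _ (cE M).subscheme ⟨i ≫ ps f⟩ ((Scheme.Modules.pullback (i ≫ emb f)).obj
        (Twist.twistProjSpace 4 k 1)) 1 = 5 := by
  sorry

/-! ## G3: the family -/

theorem exists_poly_of_mem_openE (f : LefPen.Form 4 k 3) (H : Over (Spec (CommRingCat.of k)))
    (Z : FGA.HilbSet (ps f) H) (hH : FGA.HilbRepresentedBy (ps f) H Z) (A : H.left.Opens)
    {M₀ : DataE k} (hM₀ : M₀ ∈ PP f.1) (hgood : GoodE M₀) {x₀ : ↥H.left} (hx₀ : IsClassE f H Z M₀ x₀)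
    (hA : x₀ ∈ A) :
    ∃ G : MvPolynomial (Fin 6 × Fin 6 × Fin 5) k, MvPolynomial.eval (coordE M₀) G ≠ 0 ∧
      ∀ M : DataE k, M ∈ PP f.1 → MvPolynomial.eval (coordE M) G ≠ 0 → ∃ x ∈ A, IsClassE f H Z M x := by
  sorry

/-! ## G4: regularity -/

theorem regular_ell (f : LefPen.Form 4 k 3) (hf : f ≠ 0) [Smooth (ps f)]
    (H : Over (Spec (CommRingCat.of k))) (Z : FGA.HilbSet (ps f) H) (hH : FGA.HilbRepresentedBy (ps f) H Z)
    (C : Scheme.{u}) (p : C ⟶ Spec (CommRingCat.of k)) (i : C ⟶ Xf f) (hcl : IsClosedImmersion i)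
    (hip : i ≫ ps f = p) (hsm : Smooth p) (hpr : IsProper p) (hint : IsIntegral C)
    (hdim : topologicalKrullDim C = 1) (hg : @Curv2.genus k _ C ⟨p⟩ = 1)
    (hdeg : @Curv2.deg k _ C ⟨p⟩ ((Scheme.Modules.pullback (i ≫ emb f)).obj
      (Twist.twistProjSpace 4 k 1)) 1 = 5)
    (h0 : Subsingleton (Coh.HH C (Omega.conormal i) 0))
    (h : pt k ⟶ H) (hh : FGA.hilbPull (ps f) h Z.1 = i.ker.comap (pullback.fst (ps f) (pt k).hom)) :
    IsRegularLocalRing (H.left.presheaf.stalk (h.left.base (IsLocalRing.closedPoint k))) ∧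
      ringKrullDim (H.left.presheaf.stalk (h.left.base (IsLocalRing.closedPoint k))) = 10 := by
  sorry

/-! ## G5: conormal sheaf, nondegenerate case -/

theorem conormal_nondeg (f : LefPen.Form 4 k 3) (hf : f ≠ 0) [Smooth (ps f)]
    (C : Scheme.{u}) (p : C ⟶ Spec (CommRingCat.of k)) (i : C ⟶ Xf f) (hcl : IsClosedImmersion i)
    (hip : i ≫ ps f = p) (hsm : Smooth p) (hpr : IsProper p) (hint : IsIntegral C)
    (hdim : topologicalKrullDim C = 1) (hg : @Curv2.genus k _ C ⟨p⟩ = 1)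
    (hdeg : @Curv2.deg k _ C ⟨p⟩ ((Scheme.Modules.pullback (i ≫ emb f)).obj
      (Twist.twistProjSpace 4 k 1)) 1 = 5)
    (M : DataE k) (hM : M ∈ PP f.1) (hker : (i ≫ emb f).ker = cE M) (hnd : NonDeg (i ≫ emb f).ker) :
    Subsingleton (Coh.HH C (Omega.conormal i) 0) := by
  sorry

/-! ## G6: arcs on a cubic surface with isolated singularities (pure algebra) -/

open PowerSeries in
theorem arcs_indep (F Q : MvPolynomial (Fin 4) k) (hF : F.IsHomogeneous 3) (hQ : Q.IsHomogeneous 2)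
    (hFQ : ∀ z : Fin 4 → k, z ≠ 0 → (∀ i, MvPolynomial.eval z (MvPolynomial.pderiv i F) = 0) →
      MvPolynomial.eval z Q ≠ 0)
    {ι : Type} [Fintype ι] (x : ι → Fin 4 → PowerSeries k)
    (himm : ∀ p, LinearIndependent k ![fun i => coeff 0 (x p i), fun i => coeff 1 (x p i)])
    (hinj : ∀ p q, p ≠ q → LinearIndependent k ![fun i => coeff 0 (x p i), fun i => coeff 0 (x q i)])
    (hx : ∀ p, MvPolynomial.aeval (x p) F = 0) (m : ι → ℕ)
    (hm : ∀ p i, (PowerSeries.X : PowerSeries k) ^ (m p) ∣ MvPolynomial.aeval (x p) (MvPolynomial.pderiv i F))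
    (y : (p : ι) → Fin (m p) → k) :
    ∃ l : Fin 4 → k, ∀ (p : ι) (a : Fin (m p)), coeff (a : ℕ) (∑ i, PowerSeries.C (l i) * x p i) = y p a := by
  sorry

/-! ## G7: conormal sheaf, degenerate case -/

theorem conormal_deg (f : LefPen.Form 4 k 3) (hf : f ≠ 0) [Smooth (ps f)]
    (C : Scheme.{u}) (p : C ⟶ Spec (CommRingCat.of k)) (i : C ⟶ Xf f) (hcl : IsClosedImmersion i)
    (hip : i ≫ ps f = p) (hsm : Smooth p) (hpr : IsProper p) (hint : IsIntegral C)
    (hdim : topologicalKrullDim C = 1) (hg : @Curv2.genus k _ C ⟨p⟩ = 1)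
    (hdeg : @Curv2.deg k _ C ⟨p⟩ ((Scheme.Modules.pullback (i ≫ emb f)).obj
      (Twist.twistProjSpace 4 k 1)) 1 = 5) (hd : ¬ NonDeg (i ≫ emb f).ker) :
    Subsingleton (Coh.HH C (Omega.conormal i) 0) := by
  sorry

/-! ## G8: degenerate elliptic quintics are limits of nondegenerate ones -/

theorem exists_nondeg (f : LefPen.Form 4 k 3) (hf : f ≠ 0) [Smooth (ps f)]
    (H : Over (Spec (CommRingCat.of k))) (Z : FGA.HilbSet (ps f) H) (hH : FGA.HilbRepresentedBy (ps f) H Z)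
    {x : ↥H.left} (hx : x ∈ curveSet f H Z 1 5) (A : H.left.Opens) (hA : x ∈ A) :
    ∃ y ∈ A, y ∈ curveSetQ f H Z 1 5 NonDeg := by
  sorry

end K255.PlanE
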